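import Cfsg.Agent.KFacts.M24Two.CentZ
import Cfsg.Agent.SporadicA.GolayFast
import Cfsg.Agent.OddHalf.D5.Defs
import Cfsg.Agent.KFacts.MM.InvM22
import Cfsg.Agent.J4Type.Aut22
import Cfsg.Agent.FastGrp
import Cfsg.Agent.Prune
set_option linter.all false

section
prune_inst 0x7f00000000000000000000000000000000000000000000000000000000000000000000000000000000000000000000000000000000000000000000000000000000000000000000000000000000000000003fffffffffffffffffffffffffffbeffbdffffffff

-- part: KFacts/M24Two/CentW
section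
set_option linter.all false
open scoped Cfsg.Agent.FastGrp

/-!
# The centraliser of the noncentral involution `w = X15 X24` (class `2B`) of `M24` (helper128)

`C(w) = 2⁶:S5`: `Q = ⟨X14, X15, X24, X25, X34, X35⟩ = {qe 0, …, qe 63}` is normal in `C(w)`, the 120 elements of
`TP = T0 ++ T1` represent the cosets (`cover`); `T0` those of `L = C(w) ∩ C(v)`, `v = X14 X24 X25`, which is perfect
(`L_perfect`); `d = X12 X45 y2 ∈ C(w)` satisfies `[d, v] = w` (`d_v`).
`normal_two`: a normal subgroup of `C(w)` containing `w`, none of whose involutions has a fixed point, lies in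
`⟨w, v⟩`. `odd_w`: `O(C(w)) = 1`.
-/

set_option autoImplicit false
set_option Elab.async false
set_option maxRecDepth 100000

namespace Cfsg.Agent.KFacts.M24Two.CentW

open Cfsg Cfsg.Agent.SporadicA.GolayBase Cfsg.Agent.SporadicA.GolayPerm
open Cfsg.Agent.SporadicStructure.M24El Cfsg.Agent.KFacts.M24Two.Tool
open Cfsg.Agent.KFacts.M24Two.Chain Cfsg.Agent.KFacts.M24Pair.Letters
open scoped Pointwise commutatorElement

/-! ### Data -/

/-- the root letters `X14 X15 X24 X25 X34 X35` -/
def gQ : List ℕ :=
  [137946475452688126480473909395947682, 592353204691533442233142632973374465,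
   154045676456488069852986216677081250, 610956390715471154959104471240053761,
   984806797292990878012365697499365538, 984812760466102605412385163952886785]

/-- `X13`, `X23`, `X32 X21 X32` -/
def gB : List ℕ :=
  [106832945418929216786996674173099555, 112494624569381642494933542000156195,
   486349973926430203268823274221996064]

/-- `X12 X45 y2` -/
def dP : ℕ := 891427160085875779551823993730508388

/-- `X15 X24` -/
def wP : ℕ := 716963259472417517261281706958586949

/-- `X14 X24 X25` -/
def vP : ℕ := 594857189711822175128405388796924929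

/-- the elements of `Q` -/
def QP : List ℕ :=
  [984818244535754528103549039458486304, 137946475452688126480473909395947682,
   592353204691533442233142632973374465, 734329880810077958673094028830377029,
   154045676456488069852986216677081250, 968708902336673183175954409307867168,
   716963259472417517261281706958586949, 609709684833912482089872631975678977,
   610956390715471154959104471240053761, 719467244492555286614731237944132677,
   966182099583441531322624363496310816, 152776152841835514483873862586695842,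
   735576586691787595084139092932756549, 594857189711822175128405388796924929,
   135419672699607438168957088422396066, 983548720921252936276249910206105632,
   984806797292990878012365697499365538, 137935104962206912083219455161370656,
   592341603944204920754945941074117701, 734318663824161615662852924535936001,
   154034229214026365292173381192091680, 968697531846493914309070461010542754,
   716951658725390941313455521399247873, 609698467848298084610002033752704069,
   610967761205952369356358925541737541, 719478691735318936705914579836146689,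
   966193316569357874332865467723645090, 152787753589164035962070554553059360,
   735587957181966863951023041162974209, 594868636954283879689218224349021253,
   135430889685221835648827686712477728, 983560321668279512224076095698337954,
   984812760466102605412385163952886785, 137940837878471332402296683950212165,
   592348547565827762175298702812940320, 734325377188937150002263448610078882,
   154050333581815603186534157902382149, 968713405957435845122489000458818561,
   716968743541691293228149593394839714, 609715322407751129443753868486281248,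
   610961047841327798558761626439813152, 719471748113847058827375043069542562,
   966187583653244417555601463638594561, 152781790416203272103864312803329093,
   735571102622362855575457981725606050, 594851552137832564232710927649638432,
   135415015574128941293595922291983429, 983544217300339310787902094015828993,
   984801159719152230658484461055870021, 137929620892933136116351568658011137,
   592337100323442258808411349856059554, 734314006698834082329304983377741856,
   154038732835167173963003961345283073, 968702188972199594366914391238083653,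
   716957296299607735391632746912090144, 609703951917950007301165909191196834,
   610972264826865994844706741664907426, 719483348860797433581275746033666080,
   966198954143347485228559928938038341, 152793237658588775470751665693103105,
   735582319607599106331032591013447712, 594863152884480993456241124139630754,
   135426386063930063436183881519961089, 983555664542422868624418940565685317]

/-- words for `QP` in `gQ` -/
def QW : List (List ℕ) :=
  [[], [0], [1], [0,1], [2], [0,2], [1,2], [0,1,2], [3], [0,3], [1,3], [0,1,3], [2,3], [0,2,3], [1,2,3],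
   [0,1,2,3], [4], [0,4], [1,4], [0,1,4], [2,4], [0,2,4], [1,2,4], [0,1,2,4], [3,4], [0,3,4], [1,3,4],
   [0,1,3,4], [2,3,4], [0,2,3,4], [1,2,3,4], [0,1,2,3,4], [5], [0,5], [1,5], [0,1,5], [2,5], [0,2,5],
   [1,2,5], [0,1,2,5], [3,5], [0,3,5], [1,3,5], [0,1,3,5], [2,3,5], [0,2,3,5], [1,2,3,5], [0,1,2,3,5], [4,5],
   [0,4,5], [1,4,5], [0,1,4,5], [2,4,5], [0,2,4,5], [1,2,4,5], [0,1,2,4,5], [3,4,5], [0,3,4,5], [1,3,4,5],
   [0,1,3,4,5], [2,3,4,5], [0,2,3,4,5], [1,2,3,4,5], [0,1,2,3,4,5]]

/-- representatives of the cosets of `Q` in `C(w) ∩ C(v)` -/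
def T0 : List ℕ :=
  [984818244535754528103549039458486304, 106832945418929216786996674173099555,
   112494624569381642494933542000156195, 486349973926430203268823274221996064,
   979121071158219704299181131031480352, 99199153488789759175066120085318896,
   112491923391847693621394948529073392, 480659490378039340226961277568179747,
   569415003152537194668003952442105379, 473031851047485360516668390220761120,
   971493969057224207449756488716889328, 976604784702712834393246353301026284,
   979123792162288287969805221373258992, 984797484283184239134072348338140652,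
   563747337322203996186267245198313504, 403261883881603939823597511674244336,
   473037273229087893060831074033622563, 561219768313026063917831324116082211,
   104310672283541574107262057025910252, 461756098936618678565036432686589554,
   106817607349171942625328534007068140, 486339900818530570365584544713156210,
   389975637959766092928036753270966304, 896054078583667611079900497499073776,
   403272655201210239501885792667121132, 561225190495839078725639875070396448,
   378680617328848075526219833276968176, 87929925359143164774202232591623794,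
   457021775523364176995446985794803030, 540098173994116442912820174340367986,
   99191801385412758101081799027336818, 480660188590993111817250504602834262,
   569433760439280201538991601575405170, 888435498492162962666076446339587619,
   395068420527527183476277608304959011, 896043307263456710141224378222458348,
   378683338333370707355474241727825952, 872395383128347521464787990051761392,
   373952280595437724178836417392752108, 955489714365059923490597081974953302,
   955471655290591562103453014200264306, 544833200557313258577561339264652630,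
   971491966091887596061491573248087382, 976608203919546734257938151519659634,
   563755323288772724670172583464162646, 893529556138164517157478190514112544,
   544831197592204072485295145465818352, 888416741205269838497659978892650098,
   872392681950057138486233847548304931, 373936942525528617172540566478085667,
   877159214088235669648214608252188140, 87911866285353929493503810492978518,
   457009001238044089964504672719353324, 395067722315102420695005208632710486,
   104297897998598663040708860564231510, 461759518153754528571784759967495660,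
   389967651992515890989502375226070358, 877138453836724030097756073524660256,
   540090821891645993241280220628397296, 893539629244703550499642234567861874]

/-- words for `T0` in `gB` -/
def BW : List (List ℕ) :=
  [[], [0], [1], [2], [1,0], [2,0], [2,1], [0,2], [1,2], [2,1,0], [0,2,0], [1,2,0], [0,2,1], [1,2,1],
   [1,0,2], [2,1,2], [0,2,1,0], [1,2,1,0], [1,0,2,0], [2,1,2,0], [1,0,2,1], [2,1,2,1], [2,1,0,2], [0,2,1,2],
   [1,2,1,2], [1,0,2,1,0], [2,1,2,1,0], [2,1,0,2,0], [0,2,1,2,0], [1,2,1,2,0], [2,1,0,2,1], [0,2,1,2,1],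
   [1,2,1,2,1], [0,2,1,0,2], [1,2,1,0,2], [1,0,2,1,2], [2,1,0,2,1,0], [0,2,1,2,1,0], [1,2,1,2,1,0],
   [0,2,1,0,2,0], [1,2,1,0,2,0], [1,0,2,1,2,0], [0,2,1,0,2,1], [1,2,1,0,2,1], [1,0,2,1,2,1], [1,0,2,1,0,2],
   [2,1,2,1,0,2], [2,1,0,2,1,2], [0,2,1,0,2,1,0], [1,2,1,0,2,1,0], [1,0,2,1,2,1,0], [1,0,2,1,0,2,0],
   [2,1,2,1,0,2,0], [2,1,0,2,1,2,0], [1,0,2,1,0,2,1], [2,1,2,1,0,2,1], [2,1,0,2,1,2,1], [2,1,0,2,1,0,2],
   [0,2,1,2,1,0,2], [1,2,1,0,2,1,2]]

/-- representatives of the other cosets of `Q` in `C(w)` -/
def T1 : List ℕ :=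
  [891427160085875779551823993730508388, 380432777846401976239271674851251528,
   878898346537207678316800799336048228, 898736433444752123609223268854412774,
   392971732634326404316558488613573960, 546593494353156278998045158059234632,
   878881478359129787087067180192511462, 400281650946966421215745851610248678,
   880645169044450053234575261239094516, 566410419945100345690608749198398792,
   559133094094844379917120059694327396, 476051573023059740839457055308404040,
   392951706459988399896122701056718310, 891412504112995008667839733157866740,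
   382189096614353911572077565616205044, 877878766723997572858535429315780142,
   566407261948840232499906580785079908, 465238602536684976032621116337575240,
   463522114495844873177201670407988836, 981806289365820141470082246092739912,
   380421279869102192439543937015885044, 898714327550603594119333701375778350,
   545584188226243954928551680360537646, 385097343342447749960066598596380709,
   877884136925418202290137204957382693, 465241760532265963116877639074850404,
   960940304923449414326529377048155464, 961982769282095964936556928131610086,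
   109500064938629629461182669155116644, 91413577766469370819753307575342408,
   546591414632968559517458204457131566, 400257280867135916236701967294007333,
   880626221146525032830538110831167525, 551258837274790273692580545264027685,
   462508083147269182202042517515012133, 385102713542657883292964464296615470,
   960960331097410224335831990924686822, 94317309722328296845771673002223204,
   88638534614493047098313154878428488, 102206003382120320589912736094402022,
   102211425564630383366877236953263348, 963719099043717568733501166480467556,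
   559125592193393697863122266517342245, 476044123102661888025972236006066213,
   382161568537695319305223497278709294, 468181442262294565598347194098409006,
   963726600946528806537556509579479077, 551239889376411207435756083880340724,
   94334177900708119770817764141479398, 88650032592020214688865485984017652,
   966619679193659099996223917145925220, 961977347100190480361550194223295732,
   109512937041651000598135877954362926, 462483713066380053168253555272463846,
   463509242392973561691602101589401134, 981813739286899423927178969641060389,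
   545556660150341812907614210988649716, 966634335167446380777478416664833268,
   91415657486128023845248255482060334, 468159336368297908152416458634835430]

/-- the orbits of `Q` -/
def tau (i : ℕ) : ℕ := ([0, 0, 0, 1, 2, 0, 3, 4, 5, 2, 5, 4, 3, 3, 1, 3, 4, 1, 2, 2, 4, 5, 5, 1] : List ℕ).getD i 0

/-- orbit representatives -/
def bse (k : ℕ) : ℕ := ([0, 3, 4, 6, 7, 8] : List ℕ).getD k 0

/-- `t_j g_i t_j⁻¹` is the element number `cN j i` of `Q` -/
def cN : List (List ℕ) :=
  [[1,2,4,8,16,32], [1,2,4,8,17,34], [1,2,4,8,20,40], [21,42,44,52,56,28], [1,2,4,8,21,42],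
   [21,42,44,52,45,54], [21,42,44,52,20,40], [20,40,46,55,59,29], [17,34,36,56,52,24], [21,42,44,52,1,2],
   [20,40,46,55,47,53], [17,34,36,56,37,58], [20,40,46,55,21,42], [17,34,36,56,16,32], [16,32,38,59,55,25],
   [45,54,48,16,8,12], [20,40,46,55,1,2], [17,34,36,56,1,2], [16,32,38,59,39,57], [45,54,48,16,37,58],
   [16,32,38,59,17,34], [45,54,48,16,56,28], [56,28,26,47,55,25], [47,53,51,17,8,12], [37,58,60,20,8,12],
   [16,32,38,59,1,2], [45,54,48,16,21,42], [56,28,26,47,15,5], [47,53,51,17,39,57], [37,58,60,20,45,54],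
   [56,28,26,47,45,54], [47,53,51,17,59,29], [37,58,60,20,52,24], [59,29,27,45,52,24], [52,24,30,39,59,29],
   [39,57,63,21,8,12], [56,28,26,47,21,42], [47,53,51,17,20,40], [37,58,60,20,17,34], [59,29,27,45,15,5],
   [52,24,30,39,15,5], [39,57,63,21,47,53], [59,29,27,45,47,53], [52,24,30,39,37,58], [39,57,63,21,55,25],
   [55,25,31,37,56,28], [8,12,10,15,47,53], [15,5,3,1,52,24], [59,29,27,45,20,40], [52,24,30,39,17,34],
   [39,57,63,21,16,32], [55,25,31,37,15,5], [8,12,10,15,39,57], [15,5,3,1,59,29], [55,25,31,37,39,57],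
   [8,12,10,15,37,58], [15,5,3,1,55,25], [55,25,31,37,16,32], [8,12,10,15,45,54], [15,5,3,1,56,28],
   [1,3,5,15,16,48], [1,3,5,15,17,51], [1,3,5,15,20,60], [21,63,57,39,56,36], [1,3,5,15,21,63],
   [21,63,57,39,45,27], [21,63,57,39,20,60], [20,60,58,37,59,38], [17,51,53,47,52,44], [21,63,57,39,1,3],
   [20,60,58,37,47,26], [17,51,53,47,37,31], [20,60,58,37,21,63], [17,51,53,47,16,48], [16,48,54,45,55,46],
   [45,27,29,59,8,4], [20,60,58,37,1,3], [17,51,53,47,1,3], [16,48,54,45,39,30], [45,27,29,59,37,31],
   [16,48,54,45,17,51], [45,27,29,59,56,36], [56,36,34,17,55,46], [47,26,28,56,8,4], [37,31,25,55,8,4],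
   [16,48,54,45,1,3], [45,27,29,59,21,63], [56,36,34,17,15,10], [47,26,28,56,39,30], [37,31,25,55,45,27],
   [56,36,34,17,45,27], [47,26,28,56,59,38], [37,31,25,55,52,44], [59,38,32,16,52,44], [52,44,42,21,59,38],
   [39,30,24,52,8,4], [56,36,34,17,21,63], [47,26,28,56,20,60], [37,31,25,55,17,51], [59,38,32,16,15,10],
   [52,44,42,21,15,10], [39,30,24,52,47,26], [59,38,32,16,47,26], [52,44,42,21,37,31], [39,30,24,52,55,46],
   [55,46,40,20,56,36], [8,4,2,1,47,26], [15,10,12,8,52,44], [59,38,32,16,20,60], [52,44,42,21,17,51],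
   [39,30,24,52,16,48], [55,46,40,20,15,10], [8,4,2,1,39,30], [15,10,12,8,59,38], [55,46,40,20,39,30],
   [8,4,2,1,37,31], [15,10,12,8,55,46], [55,46,40,20,16,48], [8,4,2,1,45,27], [15,10,12,8,56,36]]
/-- all representatives -/
def TP : List ℕ := T0 ++ T1

attribute [local irreducible] gQ gB QP QW T0 T1 BW cN TP

/-! ### Checks -/

private noncomputable def _root_.Cfsg.Agent.GolayF.f0 : {f // @Cfsg.Agent.SporadicStructure.M24El.ok = f} :=
  ⟨_, by delta Cfsg.Agent.SporadicStructure.M24El.ok; rewrite [Cfsg.Agent.GolayF.isPerm_eq, Cfsg.Agent.GolayF.isAut_eq]; exact rfl⟩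

theorem gQ_ok : ∀ P ∈ gQ, ok P = true := by (rewrite [Cfsg.Agent.GolayF.f0.2]; decide +kernel)
theorem gB_ok : ∀ P ∈ gB, ok P = true := by (rewrite [Cfsg.Agent.GolayF.f0.2]; decide +kernel)
theorem QP_ok : ∀ P ∈ QP, ok P = true := by (rewrite [Cfsg.Agent.GolayF.f0.2]; decide +kernel)
theorem TP_ok : ∀ P ∈ TP, ok P = true := by (rewrite [Cfsg.Agent.GolayF.f0.2]; decide +kernel)
theorem wP_ok : ok wP = true := by (rewrite [Cfsg.Agent.GolayF.f0.2]; decide +kernel)
theorem vP_ok : ok vP = true := by (rewrite [Cfsg.Agent.GolayF.f0.2]; decide +kernel)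

/-- generator number `i` of `Q` -/
noncomputable def ge (i : ℕ) : M24 := el (gQ.getD i idP)
/-- element number `m` of `Q` -/
noncomputable def qe (m : ℕ) : M24 := el (QP.getD m idP)
/-- representative number `j` -/
noncomputable def te (j : ℕ) : M24 := el (TP.getD j idP)
/-- the involution `X15 X24` -/
noncomputable def w : M24 := el wP
/-- the involution `X14 X24 X25` -/
noncomputable def v : M24 := el vP
/-- an involution of `C(w)` with `[d, v] = w` -/
noncomputable def d : M24 := el dP

theorem ge_ok (i : ℕ) : ok (gQ.getD i idP) = true := ok_getD gQ_ok i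
theorem qe_ok (m : ℕ) : ok (QP.getD m idP) = true := ok_getD QP_ok m
theorem te_ok (j : ℕ) : ok (TP.getD j idP) = true := ok_getD TP_ok j

theorem chk_mul : ∀ i < 6, ∀ m < 64,
    Nat.beq (pcomp (gQ.getD i idP) (QP.getD m idP)) (QP.getD (m ^^^ 2 ^ i) idP) = true := by (rewrite [Cfsg.Agent.GolayF.pcomp_eq]; decide +kernel)

theorem chk_mul' : ∀ i < 6, ∀ m < 64,
    Nat.beq (pcomp (QP.getD m idP) (gQ.getD i idP)) (QP.getD (m ^^^ 2 ^ i) idP) = true := by (rewrite [Cfsg.Agent.GolayF.pcomp_eq]; decide +kernel)

theorem ge_mul {i m : ℕ} (hi : i < 6) (hm : m < 64) : ge i * qe m = qe (m ^^^ 2 ^ i) := by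
  unfold ge qe
  rw [← el_pcomp (ge_ok i) (qe_ok m), Nat.eq_of_beq_eq_true (chk_mul i hi m hm)]

theorem qe_mul {i m : ℕ} (hi : i < 6) (hm : m < 64) : qe m * ge i = qe (m ^^^ 2 ^ i) := by
  unfold ge qe
  rw [← el_pcomp (qe_ok m) (ge_ok i), Nat.eq_of_beq_eq_true (chk_mul' i hi m hm)]

theorem qe_zero : qe 0 = 1 := by
  unfold qe
  rw [show QP.getD 0 idP = idP by decide +kernel, el_idP]

theorem xor_lt {i m : ℕ} (hi : i < 6) (hm : m < 64) : m ^^^ 2 ^ i < 64 :=
  Nat.xor_lt_two_pow (n := 6) hm (Nat.pow_lt_pow_right (by norm_num) hi)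

theorem ge_qe {i : ℕ} (hi : i < 6) : ge i = qe (2 ^ i) := by
  have h1 := qe_mul hi (m := 0) (by norm_num)
  rwa [qe_zero, one_mul, Nat.zero_xor] at h1

theorem two_pow_lt {i : ℕ} (hi : i < 6) : 2 ^ i < 64 := Nat.pow_lt_pow_right (n := 6) (by norm_num) hi

theorem ge_sq {i : ℕ} (hi : i < 6) : ge i * ge i = 1 := by
  have h2 := qe_mul hi (two_pow_lt hi)
  rwa [← ge_qe hi, Nat.xor_self, qe_zero] at h2

theorem ge_inv {i : ℕ} (hi : i < 6) : (ge i)⁻¹ = ge i := inv_eq_of_mul_eq_one_left (ge_sq hi)

private noncomputable def _root_.Cfsg.Agent.GolayF.f1 : {f // @Cfsg.Agent.KFacts.M24Two.Tool.chkW = f} :=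
  ⟨_, by delta Cfsg.Agent.KFacts.M24Two.Tool.chkW Cfsg.Agent.KFacts.M24Two.Tool.chkW._f Cfsg.Agent.SporadicStructure.M24El.prodW Cfsg.Agent.SporadicStructure.M24El.prodW._f; rewrite [Cfsg.Agent.GolayF.pcomp_eq]; exact rfl⟩

theorem QW_ok : chkW gQ QP QW = true := by (rewrite [Cfsg.Agent.GolayF.f1.2]; decide +kernel)

theorem gQ_idx : ∀ P ∈ gQ, ∃ i < 6, P = gQ.getD i idP := by decide +kernel

theorem QP_len : QP.length = 64 := by decide +kernel
theorem TP_len : TP.length = 120 := by decide +kernel
/-- `Q` lies in every subgroup containing the six generators -/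
theorem qe_mem {H : Subgroup M24} (hH : ∀ i < 6, ge i ∈ H) {m : ℕ} (hm : m < 64) : qe m ∈ H := by
  unfold qe
  rw [List.getD_eq_getElem _ _ (by rw [QP_len]; exact hm)]
  refine mem_of_chkW gQ_ok QW_ok ?_ (List.getElem_mem _)
  intro P hP
  obtain ⟨i, hi, rfl⟩ := gQ_idx P hP
  exact hH i hi

theorem qe_comm {a b : ℕ} (ha : a < 64) (hb : b < 64) : qe a * qe b = qe b * qe a := by
  have h1 : qe b ∈ Subgroup.centralizer ({qe a} : Set M24) := by
    apply qe_mem _ hb
    intro i hi
    rw [Subgroup.mem_centralizer_singleton_iff, ge_mul hi ha, qe_mul hi ha]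
  exact (Subgroup.mem_centralizer_singleton_iff.1 h1).symm

theorem chk_sq : ∀ m < 64, Nat.beq (pcomp (QP.getD m idP) (QP.getD m idP)) idP = true := by (rewrite [Cfsg.Agent.GolayF.pcomp_eq]; decide +kernel)

theorem qe_sq {m : ℕ} (hm : m < 64) : qe m * qe m = 1 := by
  unfold qe
  rw [← el_pcomp (qe_ok m) (qe_ok m), Nat.eq_of_beq_eq_true (chk_sq m hm), el_idP]

/-- a code of the images of the orbit representatives -/
def cd2 (P : ℕ) : ℕ := papp P (bse 0) + 24 * (papp P (bse 1) + 24 * (papp P (bse 2) + 24 * (papp P (bse 3) +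
  24 * (papp P (bse 4) + 24 * papp P (bse 5)))))

private noncomputable def _root_.Cfsg.Agent.GolayF.f2 : {f // @Cfsg.Agent.KFacts.M24Two.CentW.cd2 = f} :=
  ⟨_, by delta Cfsg.Agent.KFacts.M24Two.CentW.cd2; rewrite [Cfsg.Agent.GolayF.papp_eq]; exact rfl⟩

theorem cd2_nd : nd (QP.map cd2) = true := by (rewrite [Cfsg.Agent.GolayF.f2.2]; decide +kernel)

theorem bse_lt : ∀ k < 6, bse k < 24 := by decide

theorem cd2_eq {P R : ℕ} (hP : ok P = true) (hR : ok R = true) (h : el P = el R) : cd2 P = cd2 R := by
  have h1 := (el_eq_iff hP hR).1 h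
  unfold cd2
  rw [h1 _ (bse_lt 0 (by norm_num)), h1 _ (bse_lt 1 (by norm_num)), h1 _ (bse_lt 2 (by norm_num)),
    h1 _ (bse_lt 3 (by norm_num)), h1 _ (bse_lt 4 (by norm_num)), h1 _ (bse_lt 5 (by norm_num))]

theorem getD_inj {l : List ℕ} {f : ℕ → ℕ} (hnd : nd (l.map f) = true) {a b x : ℕ} (ha : a < l.length)
    (hb : b < l.length) (h : f (l.getD a x) = f (l.getD b x)) : a = b := by
  have h1 := nodup_of_nd hnd
  have h2 : (l.map f)[a]'(by simpa using ha) = (l.map f)[b]'(by simpa using hb) := by
    rw [List.getElem_map, List.getElem_map]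
    rwa [List.getD_eq_getElem _ _ ha, List.getD_eq_getElem _ _ hb] at h
  exact (List.Nodup.getElem_inj_iff h1).1 h2

theorem qe_inj {a b : ℕ} (ha : a < 64) (hb : b < 64) (h : qe a = qe b) : a = b :=
  getD_inj cd2_nd (by rw [QP_len]; exact ha) (by rw [QP_len]; exact hb)
    (cd2_eq (qe_ok a) (qe_ok b) h)

/-! ### The cosets -/

theorem w_qe : w = qe 6 := by
  unfold w qe
  rw [show QP.getD 6 idP = wP by decide +kernel]

theorem v_qe : v = qe 13 := by
  unfold v qe
  rw [show QP.getD 13 idP = vP by decide +kernel]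

theorem wv_qe : w * v = qe 11 := by
  have h := mul_eq_of_beq wP_ok vP_ok (qe_ok 11) ok_idP (by (rewrite [Cfsg.Agent.GolayF.pcomp_eq]; decide +kernel))
  rw [el_idP, mul_one] at h
  exact h

theorem ww : w * w = 1 := by rw [w_qe]; exact qe_sq (by norm_num)
theorem vv : v * v = 1 := by rw [v_qe]; exact qe_sq (by norm_num)
theorem wv_comm : w * v = v * w := by rw [w_qe, v_qe]; exact qe_comm (by norm_num) (by norm_num)

theorem w_no_fix (p : GolayPt) : w • p ≠ p := by
  intro h
  have h1 := congrArg idx h
  unfold w at h1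
  rw [idx_el_smul wP_ok] at h1
  have h2 : ∀ i < 24, papp wP i ≠ i := by (rewrite [Cfsg.Agent.GolayF.papp_eq]; decide +kernel)
  exact h2 _ (idx_lt p) h1

theorem w_ne : w ≠ 1 := by
  intro h
  exact w_no_fix (pt 0) (by rw [h, one_smul])

theorem card_Cw : Nat.card (Subgroup.centralizer ({w} : Set M24)) = 7680 := by
  obtain ⟨g, hg⟩ := Count.conj_w_of_no_fix ww w_ne w_no_fix
  exact (CentZ.card_centralizer_conj hg).trans Orders.card_centralizer_w

theorem chk_tw : ∀ j < 120, Nat.beq (pcomp (TP.getD j idP) wP) (pcomp wP (TP.getD j idP)) = true := by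
  (rewrite [Cfsg.Agent.GolayF.pcomp_eq]; decide +kernel)

theorem te_comm {j : ℕ} (hj : j < 120) : te j * w = w * te j :=
  mul_eq_of_beq (te_ok j) wP_ok wP_ok (te_ok j) (chk_tw j hj)

/-- the permutation of the orbits of `Q` induced by a representative, as a number -/
def cd (P : ℕ) : ℕ := tau (papp P (bse 0)) + 6 * (tau (papp P (bse 1)) + 6 * (tau (papp P (bse 2)) +
  6 * (tau (papp P (bse 3)) + 6 * (tau (papp P (bse 4)) + 6 * tau (papp P (bse 5))))))

private noncomputable def _root_.Cfsg.Agent.GolayF.f3 : {f // @Cfsg.Agent.KFacts.M24Two.CentW.cd = f} :=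
  ⟨_, by delta Cfsg.Agent.KFacts.M24Two.CentW.cd; rewrite [Cfsg.Agent.GolayF.papp_eq]; exact rfl⟩

theorem cd_nd : nd (TP.map cd) = true := by (rewrite [Cfsg.Agent.GolayF.f3.2]; decide +kernel)

theorem chk_tau : ∀ j < 120, ∀ m < 24,
    Nat.beq (tau (papp (TP.getD j idP) m)) (tau (papp (TP.getD j idP) (bse (tau m)))) = true := by (rewrite [Cfsg.Agent.GolayF.papp_eq]; decide +kernel)

theorem chk_bse : ∀ m < 64, ∀ k < 6, Nat.beq (tau (papp (QP.getD m idP) (bse k))) k = true := by (rewrite [Cfsg.Agent.GolayF.papp_eq]; decide +kernel)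

theorem papp_qe_lt (m : ℕ) {i : ℕ} (hi : i < 24) : papp (QP.getD m idP) i < 24 :=
  papp_lt (ok_iff.1 (qe_ok m)).1 hi

theorem tau_eq {j m k : ℕ} (hj : j < 120) (hm : m < 64) (hk : k < 6) :
    tau (papp (TP.getD j idP) (papp (QP.getD m idP) (bse k))) = tau (papp (TP.getD j idP) (bse k)) := by
  rw [Nat.eq_of_beq_eq_true (chk_tau j hj _ (papp_qe_lt m (bse_lt k hk))),
    Nat.eq_of_beq_eq_true (chk_bse m hm k hk)]

theorem inj {j m j' m' : ℕ} (hj : j < 120) (hm : m < 64) (hj' : j' < 120) (hm' : m' < 64)
    (h : te j * qe m = te j' * qe m') : j = j' ∧ m = m' := by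
  have h1 : ∀ k < 6, tau (papp (TP.getD j idP) (bse k)) = tau (papp (TP.getD j' idP) (bse k)) := by
    intro k hk
    have h2 := congrArg (fun g : M24 => idx (g • pt (bse k))) h
    simp only [mul_smul] at h2
    unfold te qe at h2
    rw [idx_el_smul (te_ok j), idx_el_smul (te_ok j'), idx_el_smul (qe_ok m), idx_el_smul (qe_ok m'),
      idx_pt (bse_lt k hk)] at h2
    rw [← tau_eq hj hm hk, ← tau_eq hj' hm' hk, h2]
  have h3 : j = j' := by
    apply getD_inj cd_nd (x := idP) (by rw [TP_len]; exact hj) (by rw [TP_len]; exact hj')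
    unfold cd
    rw [h1 0 (by norm_num), h1 1 (by norm_num), h1 2 (by norm_num), h1 3 (by norm_num), h1 4 (by norm_num),
      h1 5 (by norm_num)]
  subst h3
  exact ⟨rfl, qe_inj hm hm' (mul_left_cancel h)⟩

/-- **The elements of `C(w)`.** -/
theorem cover {x : M24} (hx : x * w = w * x) : ∃ j < 120, ∃ m < 64, x = te j * qe m := by
  let f : Fin 120 × Fin 64 → Subgroup.centralizer ({w} : Set M24) := fun c => ⟨te c.1 * qe c.2, by
    rw [Subgroup.mem_centralizer_singleton_iff]
    have h1 : qe (c.2 : ℕ) * w = w * qe (c.2 : ℕ) := by rw [w_qe]; exact qe_comm c.2.2 (by norm_num)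
    rw [mul_assoc, h1, ← mul_assoc, te_comm c.1.2, mul_assoc]⟩
  have hf : Function.Injective f := by
    rintro ⟨j, m⟩ ⟨j', m'⟩ h
    obtain ⟨h1, h2⟩ := inj j.2 m.2 j'.2 m'.2 (congrArg Subtype.val h)
    rw [Prod.mk.injEq]
    exact ⟨Fin.ext h1, Fin.ext h2⟩
  have hb := (Nat.bijective_iff_injective_and_card f).2 ⟨hf, by
    rw [card_Cw, Nat.card_prod, Nat.card_eq_fintype_card, Nat.card_eq_fintype_card, Fintype.card_fin,
      Fintype.card_fin]⟩
  obtain ⟨c, hc⟩ := hb.2 ⟨x, Subgroup.mem_centralizer_singleton_iff.2 hx⟩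
  exact ⟨c.1, c.1.2, c.2, c.2.2, (congrArg Subtype.val hc).symm⟩

/-! ### The action on `Q` -/

/-- `te j * ge i * (te j)⁻¹ = qe (cn j i)` -/
def cn (j i : ℕ) : ℕ := (cN.getD j []).getD i 0

theorem chk_cn : ∀ j < 120, ∀ i < 6, (Nat.blt (cn j i) 64 &&
    Nat.beq (pcomp (TP.getD j idP) (gQ.getD i idP)) (pcomp (QP.getD (cn j i) idP) (TP.getD j idP))) = true := by
  (rewrite [Cfsg.Agent.GolayF.pcomp_eq]; decide +kernel)

theorem cn_lt {j i : ℕ} (hj : j < 120) (hi : i < 6) : cn j i < 64 := by
  have h := chk_cn j hj i hi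
  rw [Bool.and_eq_true, Nat.blt_eq] at h
  exact h.1

theorem te_conj {j i : ℕ} (hj : j < 120) (hi : i < 6) : te j * ge i * (te j)⁻¹ = qe (cn j i) := by
  have h := chk_cn j hj i hi
  rw [Bool.and_eq_true] at h
  rw [mul_inv_eq_iff_eq_mul]
  unfold te ge qe
  exact mul_eq_of_beq (te_ok j) (ge_ok i) (qe_ok (cn j i)) (te_ok j) h.2

/-- the commutators with the generators of `Q` -/
theorem comm_ge {j m i : ℕ} (hj : j < 120) (hm : m < 64) (hi : i < 6) :
    (te j * qe m) * ge i * (te j * qe m)⁻¹ * (ge i)⁻¹ = qe (cn j i ^^^ 2 ^ i) := by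
  have h1 : qe m * ge i = ge i * qe m := by
    rw [ge_qe hi]; exact qe_comm hm (two_pow_lt hi)
  calc (te j * qe m) * ge i * (te j * qe m)⁻¹ * (ge i)⁻¹ = te j * (qe m * ge i) * (qe m)⁻¹ * (te j)⁻¹ * (ge i)⁻¹ := by
        group
    _ = (te j * ge i * (te j)⁻¹) * (ge i)⁻¹ := by rw [h1]; group
    _ = qe (cn j i) * ge i := by rw [te_conj hj hi, ge_inv hi]
    _ = _ := qe_mul hi (cn_lt hj hi)

theorem ge_comm_w {i : ℕ} (hi : i < 6) : ge i * w = w * ge i := by
  rw [ge_qe hi, w_qe]; exact qe_comm (two_pow_lt hi) (by norm_num)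

theorem te_zero : te 0 = 1 := by
  unfold te
  rw [show TP.getD 0 idP = idP by decide +kernel, el_idP]

/-- a representative acting trivially modulo `⟨w, v⟩` is trivial -/
theorem chk_triv : ∀ j < 120, j = 0 ∨ ∃ i < 6, cn j i ^^^ 2 ^ i ∉ [0, 6, 13, 11] := by decide +kernel

/-- the elements of `Q` outside `⟨w, v⟩`: either they or their product with `w` have a fixed point -/
theorem chk_fix : ∀ m < 64, m ∈ [0, 6, 13, 11] ∨ (∃ i < 24, papp (QP.getD m idP) i = i) ∨
    ∃ i < 24, papp (pcomp wP (QP.getD m idP)) i = i := by (rewrite [Cfsg.Agent.GolayF.papp_eq, Cfsg.Agent.GolayF.pcomp_eq]; decide +kernel)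

theorem qe_cases {m : ℕ} (h : m ∈ [0, 6, 13, 11]) : qe m = 1 ∨ qe m = w ∨ qe m = v ∨ qe m = w * v := by
  simp only [List.mem_cons, List.not_mem_nil, or_false] at h
  rcases h with rfl | rfl | rfl | rfl
  · exact Or.inl qe_zero
  · exact Or.inr (Or.inl w_qe.symm)
  · exact Or.inr (Or.inr (Or.inl v_qe.symm))
  · exact Or.inr (Or.inr (Or.inr wv_qe.symm))

/-- **Normal subgroups of `C(w)` without involutions of class `2A`.** -/
theorem normal_two {N : Subgroup M24} (hw : w ∈ N) (hle : ∀ n ∈ N, n * w = w * n)
    (hn : ∀ c : M24, c * w = w * c → ∀ n ∈ N, c * n * c⁻¹ ∈ N)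
    (hfix : ∀ n ∈ N, n * n = 1 → n ≠ 1 → ∀ p : GolayPt, n • p ≠ p) {n : M24} (hnN : n ∈ N) :
    n = 1 ∨ n = w ∨ n = v ∨ n = w * v := by
  have key : ∀ m < 64, qe m ∈ N → m ∈ [0, 6, 13, 11] := by
    intro m hm h
    rcases chk_fix m hm with h1 | ⟨i, hi, h1⟩ | ⟨i, hi, h1⟩
    · exact h1
    · by_contra hne
      apply hfix _ h (qe_sq hm) _ (pt i)
      · unfold qe
        rw [el_smul_pt (qe_ok m), idx_pt hi, h1]
      · intro h2
        rw [← qe_zero] at h2
        rw [qe_inj hm (by norm_num) h2] at hne
        exact hne (by decide)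
    · by_contra hne
      have h2 : w * qe m = el (pcomp wP (QP.getD m idP)) := by
        unfold w qe
        rw [el_pcomp wP_ok (qe_ok m)]
      have h3 : (w * qe m) * (w * qe m) = 1 := by
        have h4 : w * qe m = qe m * w := by rw [w_qe]; exact qe_comm (by norm_num) hm
        calc (w * qe m) * (w * qe m) = w * (qe m * w) * qe m := by group
          _ = (w * w) * (qe m * qe m) := by rw [← h4]; group
          _ = 1 := by rw [ww, qe_sq hm, one_mul]
      apply hfix _ (mul_mem hw h) h3 _ (pt i)
      · rw [h2, el_smul_pt (ok_pcomp wP_ok (qe_ok m)), idx_pt hi, h1]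
      · intro h4
        have h5 : qe m = qe 6 := by
          rw [← w_qe]
          have h6 : qe m = w⁻¹ := by rw [← mul_right_inj w, h4, mul_inv_cancel]
          rw [h6, inv_eq_of_mul_eq_one_left ww]
        rw [qe_inj hm (by norm_num) h5] at hne
        exact hne (by decide)
  obtain ⟨j, hj, m, hm, rfl⟩ := cover (hle n hnN)
  have h1 : ∀ i < 6, cn j i ^^^ 2 ^ i ∈ [0, 6, 13, 11] := by
    intro i hi
    apply key _ (xor_lt hi (cn_lt hj hi))
    rw [← comm_ge hj hm hi]
    have h2 := hn (ge i) (ge_comm_w hi) _ (inv_mem hnN)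
    have e : (te j * qe m) * ge i * (te j * qe m)⁻¹ * (ge i)⁻¹ =
        (te j * qe m) * (ge i * (te j * qe m)⁻¹ * (ge i)⁻¹) := by group
    rw [e]
    exact mul_mem hnN h2
  rcases chk_triv j hj with rfl | ⟨i, hi, h2⟩
  · rw [te_zero, one_mul] at hnN ⊢
    exact qe_cases (key m hm hnN)
  · exact absurd (h1 i hi) h2

/-- **`O(C(w)) = 1`.** -/
theorem odd_w (I : Subgroup M24) (hI : ∀ i ∈ I, i * w = w * i)
    (hn : ∀ c : M24, c * w = w * c → ∀ i ∈ I, c * i * c⁻¹ ∈ I) (ho : Odd (Nat.card I)) : I = ⊥ := by
  have key : ∀ m < 64, qe m ∈ I → m = 0 := by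
    intro m hm h
    have h1 : qe m = 1 := by
      have h2 : orderOf (qe m) ∣ 2 := orderOf_dvd_of_pow_eq_one (by rw [pow_two]; exact qe_sq hm)
      have h3 : orderOf (qe m) ∣ Nat.card I := by
        have := orderOf_dvd_natCard (⟨qe m, h⟩ : I)
        rwa [Subgroup.orderOf_mk] at this
      have h4 : orderOf (qe m) ∣ 1 := by
        rw [← Nat.Coprime.gcd_eq_one (ho.coprime_two_right)]
        exact Nat.dvd_gcd h3 h2
      exact orderOf_eq_one_iff.1 (Nat.dvd_one.1 h4)
    rw [← qe_zero] at h1
    exact qe_inj hm (by norm_num) h1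
  rw [Subgroup.eq_bot_iff_forall]
  intro x hx
  obtain ⟨j, hj, m, hm, rfl⟩ := cover (hI x hx)
  have h1 : ∀ i < 6, cn j i ^^^ 2 ^ i = 0 := by
    intro i hi
    apply key _ (xor_lt hi (cn_lt hj hi))
    rw [← comm_ge hj hm hi]
    have h2 := hn (ge i) (ge_comm_w hi) _ (inv_mem hx)
    have e : (te j * qe m) * ge i * (te j * qe m)⁻¹ * (ge i)⁻¹ =
        (te j * qe m) * (ge i * (te j * qe m)⁻¹ * (ge i)⁻¹) := by group
    rw [e]
    exact mul_mem hx h2
  rcases chk_triv j hj with rfl | ⟨i, hi, h2⟩
  · rw [te_zero, one_mul] at hx ⊢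
    rw [key m hm hx, qe_zero]
  · exact absurd (by rw [h1 i hi]; decide) h2

/-! ### `L = C(w) ∩ C(v)` -/

theorem chk_tv : ∀ j < 120, j < 60 ∨ (List.range 24).any (fun i =>
    !(Nat.beq (papp (pcomp (TP.getD j idP) vP) i) (papp (pcomp vP (TP.getD j idP)) i))) = true := by (rewrite [Cfsg.Agent.GolayF.papp_eq, Cfsg.Agent.GolayF.pcomp_eq]; decide +kernel)

theorem BW_ok : chkW gB T0 BW = true := by (rewrite [Cfsg.Agent.GolayF.f1.2]; decide +kernel)

theorem T0_len : T0.length = 60 := by decide +kernel

/-- the centraliser of `⟨w, v⟩` -/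
noncomputable def LL : Subgroup M24 := Subgroup.centralizer ({w} : Set M24) ⊓ Subgroup.centralizer ({v} : Set M24)

theorem mem_LL {x : M24} : x ∈ LL ↔ x * w = w * x ∧ x * v = v * x := by
  unfold LL
  rw [Subgroup.mem_inf, Subgroup.mem_centralizer_singleton_iff, Subgroup.mem_centralizer_singleton_iff]

private noncomputable def _root_.Cfsg.Agent.GolayF.f4 : {f // @Cfsg.Agent.SporadicStructure.M24El.prodW = f} :=
  ⟨_, by delta Cfsg.Agent.SporadicStructure.M24El.prodW Cfsg.Agent.SporadicStructure.M24El.prodW._f; rewrite [Cfsg.Agent.GolayF.pcomp_eq]; exact rfl⟩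

theorem w_ev : w = ev [3, 5] := by
  rw [← el_prodW_eq, show prodW gx [3, 5] = wP by (rewrite [Cfsg.Agent.GolayF.f4.2]; decide +kernel)]; rfl

theorem v_ev : v = ev [2, 5, 6] := by
  rw [← el_prodW_eq, show prodW gx [2, 5, 6] = vP by (rewrite [Cfsg.Agent.GolayF.f4.2]; decide +kernel)]; rfl

theorem d_ev : d = ev [0, 9, 14] := by
  rw [← el_prodW_eq, show prodW gx [0, 9, 14] = dP by (rewrite [Cfsg.Agent.GolayF.f4.2]; decide +kernel)]; rfl

theorem ev_mem_LL {u : List ℕ} (h : (weqb (u ++ [3, 5]) ([3, 5] ++ u) && weqb (u ++ [2, 5, 6]) ([2, 5, 6] ++ u)) =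
    true) : ev u ∈ LL := by
  rw [Bool.and_eq_true] at h
  rw [mem_LL, w_ev, v_ev, ← ev_append, ← ev_append, ← ev_append, ← ev_append]
  exact ⟨weq h.1, weq h.2⟩

/-- a subgroup containing the generators contains `L` -/
theorem LL_le {H : Subgroup M24} (hQ : ∀ i < 6, ge i ∈ H) (hB : ∀ P ∈ gB, el P ∈ H) : LL ≤ H := by
  intro x hx
  rw [mem_LL] at hx
  obtain ⟨j, hj, m, hm, rfl⟩ := cover hx.1
  have hqv : qe m * v = v * qe m := by rw [v_qe]; exact qe_comm hm (by norm_num)
  have htv : te j * v = v * te j := by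
    have h1 : te j = (te j * qe m) * (qe m)⁻¹ := by group
    have h2 : (qe m)⁻¹ * v = v * (qe m)⁻¹ := by
      rw [inv_mul_eq_iff_eq_mul, ← mul_assoc, hqv, mul_assoc, mul_inv_cancel, mul_one]
    calc te j * v = (te j * qe m) * ((qe m)⁻¹ * v) := by group
      _ = (te j * qe m) * v * (qe m)⁻¹ := by rw [h2]; group
      _ = v * (te j * qe m) * (qe m)⁻¹ := by rw [hx.2]
      _ = _ := by group
  apply mul_mem
  · rcases chk_tv j hj with h1 | h1
    · unfold te TP
      rw [List.getD_append _ _ _ _ (by rw [T0_len]; exact h1), List.getD_eq_getElem _ _ (by rw [T0_len]; exact h1)]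
      exact mem_of_chkW gB_ok BW_ok hB (List.getElem_mem _)
    · exfalso
      obtain ⟨i, hi, h2⟩ := List.any_eq_true.1 h1
      rw [Bool.not_eq_true'] at h2
      apply el_ne (ok_pcomp (te_ok j) vP_ok) (ok_pcomp vP_ok (te_ok j)) (List.mem_range.1 hi) h2
      rw [el_pcomp (te_ok j) vP_ok, el_pcomp vP_ok (te_ok j)]
      exact htv
  · exact qe_mem hQ hm

/-- the generators as commutators -/
def cmL : List (List ℕ × List ℕ × List ℕ) := [([2], [7], [1]), ([3], [8], [1]), ([5], [7], [4]), ([6], [8], [4]),
  ([7], [2], [4, 10, 16, 10]), ([8], [3], [4, 10, 16, 10]),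
  ([1], [4], [10, 16, 10, 4, 10, 16, 10, 4, 1, 10, 16, 10]),
  ([4], [1], [10, 16, 10, 4, 1, 10, 16, 10, 4, 10, 16, 10]),
  ([10, 16, 10], [4 , 10, 16, 10, 4, 1], [4, 10, 16, 10, 4, 1, 10, 16, 10])]

/-- membership test -/
def inL (u : List ℕ) : Bool := weqb (u ++ [3, 5]) ([3, 5] ++ u) && weqb (u ++ [2, 5, 6]) ([2, 5, 6] ++ u)

private noncomputable def _root_.Cfsg.Agent.GolayF.f5 : {f // @Cfsg.Agent.KFacts.M24Pair.Letters.weqb = f} :=
  ⟨_, by delta Cfsg.Agent.KFacts.M24Pair.Letters.weqb Cfsg.Agent.SporadicStructure.M24El.prodW Cfsg.Agent.SporadicStructure.M24El.prodW._f; rewrite [Cfsg.Agent.GolayF.pcomp_eq]; exact rfl⟩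

private noncomputable def _root_.Cfsg.Agent.GolayF.f6 : {f // @Cfsg.Agent.KFacts.M24Two.CentW.inL = f} :=
  ⟨_, by delta Cfsg.Agent.KFacts.M24Pair.Letters.weqb Cfsg.Agent.KFacts.M24Two.CentW.inL Cfsg.Agent.SporadicStructure.M24El.prodW Cfsg.Agent.SporadicStructure.M24El.prodW._f; rewrite [Cfsg.Agent.GolayF.pcomp_eq]; exact rfl⟩

theorem cmL_ok : (cmL.all fun e => inL e.2.1 && inL e.2.2 &&
    weqb (e.2.1 ++ e.2.2) (e.1 ++ (e.2.2 ++ e.2.1))) = true := by (rewrite [Cfsg.Agent.GolayF.f5.2, Cfsg.Agent.GolayF.f6.2]; decide +kernel)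

theorem mem_comm_of {u a b : List ℕ} (h : (u, a, b) ∈ cmL) : ev u ∈ (⁅LL, LL⁆ : Subgroup M24) := by
  have h1 := List.all_eq_true.1 cmL_ok _ h
  simp only [Bool.and_eq_true] at h1
  obtain ⟨⟨h2, h3⟩, h4⟩ := h1
  have h5 := weq h4
  rw [ev_append, ev_append, ev_append] at h5
  have h6 : ev u = ⁅ev a, ev b⁆ := by rw [commutatorElement_def, h5]; group
  rw [h6]
  exact Subgroup.commutator_mem_commutator (ev_mem_LL h2) (ev_mem_LL h3)

/-- **`L = C(⟨w, v⟩)` is perfect.** -/
theorem L_perfect : (⁅LL, LL⁆ : Subgroup M24) = LL := by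
  apply le_antisymm
  · rw [Subgroup.commutator_le]
    intro a ha b hb
    rw [commutatorElement_def]
    exact LL.mul_mem (LL.mul_mem (LL.mul_mem ha hb) (LL.inv_mem ha)) (LL.inv_mem hb)
  · apply LL_le
    · intro i hi
      have h1 : ∀ i < 6, gQ.getD i idP = prodW gx [[2, 3, 5, 6, 7, 8].getD i 0] := by (rewrite [Cfsg.Agent.GolayF.f4.2]; decide +kernel)
      unfold ge
      rw [h1 i hi, el_prodW_eq]
      interval_cases i
      · exact mem_comm_of (a := [7]) (b := [1]) (by decide)
      · exact mem_comm_of (a := [8]) (b := [1]) (by decide)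
      · exact mem_comm_of (a := [7]) (b := [4]) (by decide)
      · exact mem_comm_of (a := [8]) (b := [4]) (by decide)
      · exact mem_comm_of (a := [2]) (b := [4, 10, 16, 10]) (by decide)
      · exact mem_comm_of (a := [3]) (b := [4, 10, 16, 10]) (by decide)
    · intro P hP
      have h1 : ∀ P ∈ gB, P = prodW gx [1] ∨ P = prodW gx [4] ∨ P = prodW gx [10, 16, 10] := by (rewrite [Cfsg.Agent.GolayF.f4.2]; decide +kernel)
      rcases h1 P hP with rfl | rfl | rfl
      · rw [el_prodW_eq]
        exact mem_comm_of (a := [4]) (b := [10, 16, 10, 4, 10, 16, 10, 4, 1, 10, 16, 10]) (by decide)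
      · rw [el_prodW_eq]
        exact mem_comm_of (a := [1]) (b := [10, 16, 10, 4, 1, 10, 16, 10, 4, 10, 16, 10]) (by decide)
      · rw [el_prodW_eq]
        exact mem_comm_of (a := [4 , 10, 16, 10, 4, 1]) (b := [4, 10, 16, 10, 4, 1, 10, 16, 10]) (by decide)

theorem w_mem_LL : w ∈ LL := mem_LL.2 ⟨rfl, wv_comm⟩
theorem v_mem_LL : v ∈ LL := mem_LL.2 ⟨wv_comm.symm, rfl⟩

theorem d_comm : d * w = w * d := by
  rw [d_ev, w_ev, ← ev_append, ← ev_append]
  exact weq (by (rewrite [Cfsg.Agent.GolayF.f5.2]; decide +kernel))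

theorem d_v : d * v * d⁻¹ * v⁻¹ = w := by
  have h1 : d * v = w * (v * d) := by
    rw [d_ev, w_ev, v_ev, ← ev_append, ← ev_append, ← ev_append]
    exact weq (by (rewrite [Cfsg.Agent.GolayF.f5.2]; decide +kernel))
  rw [h1]; group

end Cfsg.Agent.KFacts.M24Two.CentW
end

-- part: OddHalf/D5/Disj
section
set_option linter.all false
open scoped Cfsg.Agent.FastGrp

/-!
# ODD D5: `t` has no conjugate in `K`, `n ≥ 6`

Every involution `k` of `A_n`, `n ≥ 6`, lies in the commutator subgroup of `C_{A_n}(k)`, and
`t ∉ ⁅C_G(t), C_G(t)⁆ ≤ K`.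
-/

set_option autoImplicit false

namespace Cfsg.Agent.OddHalf.D5

open Subgroup Equiv

/-! ### permutations -/

section perm

variable {n : ℕ}

/-- the centralizer of `k` in `A_n` -/
def CA (k : Perm (Fin n)) : Subgroup (Perm (Fin n)) := centralizer ({k} : Set (Perm (Fin n))) ⊓ An n

theorem mem_CA {k x : Perm (Fin n)} : x ∈ CA k ↔ x * k = k * x ∧ Perm.sign x = 1 := by
  rw [CA, mem_inf, mem_centralizer_singleton_iff, Perm.mem_alternatingGroup]

/-- `(ab)(cd)` is a commutator in `C_{A_n}(k)` -/
theorem pair_mem {k : Perm (Fin n)} (hk : k * k = 1) {a b c d e f : Fin n} (hab : k a = b) (hcd : k c = d)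
    (ab : a ≠ b) (cd : c ≠ d) (ac : a ≠ c) (ad : a ≠ d) (ef : e ≠ f) (ea : e ≠ a) (eb : e ≠ b) (ec : e ≠ c)
    (ed : e ≠ d) (fa : f ≠ a) (fb : f ≠ b) (fc : f ≠ c) (fd : f ≠ d)
    (hef : (k e = f ∧ k f = e) ∨ (k e = e ∧ k f = f)) :
    swap a b * swap c d ∈ ⁅CA k, CA k⁆ := by
  have hba : k b = a := by rw [← hab, ← Perm.mul_apply, hk, Perm.one_apply]
  have hdc : k d = c := by rw [← hcd, ← Perm.mul_apply, hk, Perm.one_apply]
  have bc : b ≠ c := by
    rintro rfl
    rw [hba] at hcd
    exact ad hcd
  have bd : b ≠ d := by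
    rintro rfl
    rw [hba] at hdc
    exact ac hdc
  have h1 : swap a b * k = k * swap a b := by
    rw [mul_swap_eq_swap_mul, hab, hba, swap_comm b a]
  have h2 : swap e f * k = k * swap e f := by
    rw [mul_swap_eq_swap_mul]
    rcases hef with ⟨h, h'⟩ | ⟨h, h'⟩
    · rw [h, h', swap_comm f e]
    · rw [h, h']
  have h3 : swap a c * swap b d * k = k * (swap a c * swap b d) := by
    have e1 : k * swap a c = swap b d * k := by rw [mul_swap_eq_swap_mul, hab, hcd]
    have e2 : k * swap b d = swap a c * k := by rw [mul_swap_eq_swap_mul, hba, hdc]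
    have e3 : swap b d * swap a c = swap a c * swap b d :=
      (Perm.disjoint_swap_swap (by simp; (clear * - ab cd ac ad bc bd; tauto))).commute.eq
    rw [← mul_assoc k, e1, mul_assoc (swap b d), e2, ← mul_assoc, e3]
  have hx : swap a b * swap e f ∈ CA k := by
    rw [mem_CA]
    refine ⟨?_, ?_⟩
    · rw [mul_assoc, h2, ← mul_assoc, h1, mul_assoc]
    · rw [Perm.sign_mul, Perm.sign_swap ab, Perm.sign_swap ef]; decide
  have hy : swap a c * swap b d ∈ CA k := by
    rw [mem_CA]
    refine ⟨h3, ?_⟩
    rw [Perm.sign_mul, Perm.sign_swap ac, Perm.sign_swap bd]; decide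
  have hc := commutator_mem_commutator hx hy
  rw [commutatorElement_def] at hc
  have e1 : swap a b * swap e f * (swap a c * swap b d) * (swap a b * swap e f)⁻¹ * (swap a c * swap b d)⁻¹ =
      swap a b * swap c d := by
    have hya : (swap a c * swap b d) a = c := by
      rw [Perm.mul_apply, swap_apply_of_ne_of_ne ab ad, swap_apply_left]
    have hyb : (swap a c * swap b d) b = d := by
      rw [Perm.mul_apply, swap_apply_left, swap_apply_of_ne_of_ne (Ne.symm ad) (Ne.symm cd)]
    have hye : (swap a c * swap b d) e = e := by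
      rw [Perm.mul_apply, swap_apply_of_ne_of_ne eb ed, swap_apply_of_ne_of_ne ea ec]
    have hyf : (swap a c * swap b d) f = f := by
      rw [Perm.mul_apply, swap_apply_of_ne_of_ne fb fd, swap_apply_of_ne_of_ne fa fc]
    set y := swap a c * swap b d with hy'
    have h4 : y * (swap a b * swap e f)⁻¹ * y⁻¹ = swap e f * swap c d := by
      have e2 : y * swap e f = swap e f * y := by rw [mul_swap_eq_swap_mul, hye, hyf]
      have e3 : y * swap a b = swap c d * y := by rw [mul_swap_eq_swap_mul, hya, hyb]
      rw [mul_inv_rev, swap_inv, swap_inv, ← mul_assoc, e2, mul_assoc (swap e f), e3, mul_assoc,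
        mul_assoc (swap c d), mul_inv_cancel, mul_one]
    calc swap a b * swap e f * y * (swap a b * swap e f)⁻¹ * y⁻¹
        = swap a b * swap e f * (y * (swap a b * swap e f)⁻¹ * y⁻¹) := by group
      _ = swap a b * (swap e f * swap e f) * swap c d := by rw [h4]; group
      _ = swap a b * swap c d := by rw [swap_mul_self, mul_one]
  rwa [e1] at hc

theorem exists_ef (hn : 6 ≤ n) {k : Perm (Fin n)} (hk : k * k = 1) {a b c d : Fin n} (hab : k a = b)
    (hcd : k c = d) : ∃ e f : Fin n, e ≠ f ∧ e ≠ a ∧ e ≠ b ∧ e ≠ c ∧ e ≠ d ∧ f ≠ a ∧ f ≠ b ∧ f ≠ c ∧ f ≠ d ∧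
      ((k e = f ∧ k f = e) ∨ (k e = e ∧ k f = f)) := by
  classical
  have hex : ∀ S : Finset (Fin n), S.card < n → ∃ g, g ∉ S := by
    intro S h
    by_contra hcon
    push Not at hcon
    have : S = Finset.univ := Finset.eq_univ_of_forall hcon
    rw [this, Finset.card_univ, Fintype.card_fin] at h
    exact lt_irrefl _ h
  have hkk : ∀ x, k (k x) = x := fun x => by rw [← Perm.mul_apply, hk, Perm.one_apply]
  have hba : k b = a := by rw [← hab, hkk]
  have hdc : k d = c := by rw [← hcd, hkk]
  have key : ∀ e : Fin n, e ≠ a → e ≠ b → e ≠ c → e ≠ d → k e ≠ a ∧ k e ≠ b ∧ k e ≠ c ∧ k e ≠ d := by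
    intro e ea eb ec ed
    refine ⟨?_, ?_, ?_, ?_⟩
    · intro h; apply eb; rw [← hkk e, h, hab]
    · intro h; apply ea; rw [← hkk e, h, hba]
    · intro h; apply ed; rw [← hkk e, h, hcd]
    · intro h; apply ec; rw [← hkk e, h, hdc]
  obtain ⟨e, he⟩ := hex {a, b, c, d} (lt_of_le_of_lt Finset.card_le_four (by omega))
  simp only [Finset.mem_insert, Finset.mem_singleton, not_or] at he
  obtain ⟨ea, eb, ec, ed⟩ := he
  by_cases h1 : k e = e
  · obtain ⟨f, hf⟩ := hex {a, b, c, d, e} (lt_of_le_of_lt Finset.card_le_five (by omega))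
    simp only [Finset.mem_insert, Finset.mem_singleton, not_or] at hf
    obtain ⟨fa, fb, fc, fd, fe⟩ := hf
    by_cases h2 : k f = f
    · exact ⟨e, f, Ne.symm fe, ea, eb, ec, ed, fa, fb, fc, fd, Or.inr ⟨h1, h2⟩⟩
    · obtain ⟨h3, h4, h5, h6⟩ := key f fa fb fc fd
      exact ⟨f, k f, Ne.symm h2, fa, fb, fc, fd, h3, h4, h5, h6, Or.inl ⟨rfl, hkk f⟩⟩
  · obtain ⟨h3, h4, h5, h6⟩ := key e ea eb ec ed
    exact ⟨e, k e, Ne.symm h1, ea, eb, ec, ed, h3, h4, h5, h6, Or.inl ⟨rfl, hkk e⟩⟩

/-- the parts of `k` -/
theorem part_mem (hn : 6 ≤ n) {k : Perm (Fin n)} (hk : k * k = 1) (m : ℕ) : ∀ h : Perm (Fin n),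
    h.support.card ≤ m → (∀ x, h x = x ∨ h x = k x) → Perm.sign h = 1 → h ∈ ⁅CA k, CA k⁆ := by
  classical
  have hkk : ∀ x, k (k x) = x := fun x => by rw [← Perm.mul_apply, hk, Perm.one_apply]
  -- removing a transposition
  have step : ∀ h : Perm (Fin n), (∀ x, h x = x ∨ h x = k x) → ∀ a, h a ≠ a →
      (∀ x, (swap a (k a) * h) x = x ∨ (swap a (k a) * h) x = k x) ∧
      (swap a (k a) * h).support ⊆ h.support ∧ a ∉ (swap a (k a) * h).support ∧ k a ≠ a ∧
      (∀ x, (swap a (k a) * h) x ≠ x → x ≠ a ∧ x ≠ k a) := by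
    intro h hh a ha
    have h1 : h a = k a := (hh a).resolve_left ha
    have h2 : k a ≠ a := by rw [← h1]; exact ha
    have h3 : h (k a) = a := by
      rcases hh (k a) with h4 | h4
      · exfalso
        apply h2
        exact (h.injective (h1.trans h4.symm)).symm
      · rw [h4, hkk]
    have hx : ∀ x, (swap a (k a) * h) x = if x = a ∨ x = k a then x else h x := by
      intro x
      rw [Perm.mul_apply]
      by_cases hxa : x = a
      · rw [if_pos (Or.inl hxa), hxa, h1, swap_apply_right]
      by_cases hxb : x = k a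
      · rw [if_pos (Or.inr hxb), hxb, h3, swap_apply_left]
      rw [if_neg (by (clear * - n k a x hxa hxb; tauto))]
      apply swap_apply_of_ne_of_ne
      · intro h4; apply hxb; exact h.injective (h4.trans h3.symm)
      · intro h4; apply hxa; exact h.injective (h4.trans h1.symm)
    refine ⟨?_, ?_, ?_, h2, ?_⟩
    · intro x
      rw [hx]
      split_ifs with h4
      · exact Or.inl rfl
      · exact hh x
    · intro x hx'
      rw [Perm.mem_support, hx] at hx'
      rw [Perm.mem_support]
      split_ifs at hx' with h4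
      · exact absurd rfl hx'
      · exact hx'
    · rw [Perm.mem_support, hx, if_pos (Or.inl rfl)]; exact fun h => h rfl
    · intro x hx'
      rw [hx] at hx'
      split_ifs at hx' with h4
      · exact absurd rfl hx'
      · exact ⟨fun h => h4 (Or.inl h), fun h => h4 (Or.inr h)⟩
  induction m with
  | zero =>
    intro h hc _ _
    have : h = 1 := by
      rw [← Perm.card_support_eq_zero]; omega
    rw [this]; exact one_mem _
  | succ m ih =>
    intro h hc hh hs
    by_cases h1 : h = 1
    · rw [h1]; exact one_mem _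
    obtain ⟨a, ha⟩ : ∃ a, h a ≠ a := by
      by_contra hcon
      push Not at hcon
      exact h1 (Perm.ext hcon)
    obtain ⟨s1, s2, s3, s4, s5⟩ := step h hh a ha
    have hs' : Perm.sign (swap a (k a) * h) = -1 := by
      rw [Perm.sign_mul, Perm.sign_swap (Ne.symm s4), hs, mul_one]
    obtain ⟨c, hc'⟩ : ∃ c, (swap a (k a) * h) c ≠ c := by
      by_contra hcon
      push Not at hcon
      have : swap a (k a) * h = 1 := Perm.ext hcon
      rw [this, Perm.sign_one] at hs'
      exact absurd hs' (by decide)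
    obtain ⟨r1, r2, r3, r4, r5⟩ := step _ s1 c hc'
    obtain ⟨ca, cb⟩ := s5 c hc'
    set h' := swap c (k c) * (swap a (k a) * h) with hh'
    have hmem := ih h' (by
      have h4 : h'.support ⊆ h.support.erase a := by
        intro x hx
        rw [Finset.mem_erase]
        have h5 := r2 hx
        refine ⟨?_, s2 h5⟩
        rintro rfl
        exact s3 h5
      have h5 := Finset.card_le_card h4
      rw [Finset.card_erase_of_mem (Perm.mem_support.2 ha)] at h5
      omega) r1 (by rw [Perm.sign_mul, hs', Perm.sign_swap (Ne.symm r4)]; decide)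
    obtain ⟨e, f, h6, h7, h8, h9, h10, h11, h12, h13, h14, h15⟩ := exists_ef hn hk (a := a) (c := c) rfl rfl
    have h16 := pair_mem hk (a := a) (c := c) rfl rfl (Ne.symm s4) (Ne.symm r4) (Ne.symm ca)
      (by intro h17; apply cb; rw [h17, hkk]) h6 h7 h8 h9 h10 h11 h12 h13 h14 h15
    have h17 : h = swap a (k a) * swap c (k c) * h' := by
      rw [hh', ← mul_assoc, mul_assoc (swap a (k a)), swap_mul_self, mul_one, ← mul_assoc, swap_mul_self, one_mul]
    rw [h17]
    exact mul_mem h16 hmem

/-- **every involution of `A_n`, `n ≥ 6`, is in the commutator subgroup of its centralizer** -/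
theorem mem_commutator_CA (hn : 6 ≤ n) {k : Perm (Fin n)} (hk : k * k = 1) (hs : Perm.sign k = 1) :
    k ∈ ⁅CA k, CA k⁆ :=
  part_mem hn hk _ k le_rfl (fun _ => Or.inr rfl) hs

end perm

/-! ### groups -/

variable {G : Type*} [Group G]

namespace Gen

variable {n : ℕ} {t : G} {φ : centralizer ({t} : Set G) →* Perm (Fin n)} {K : Subgroup G}

theorem even_comm (h : Gen t φ K) {u x : centralizer ({t} : Set G)} (hu : φ u ∈ An n) :
    (x : G) * u * (x : G)⁻¹ * (u : G)⁻¹ ∈ K := by
  have hx := mem_centralizer_singleton_iff.1 x.2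
  rcases h.mem u hu with h1 | h1
  · exact K.mul_mem (h.norm _ hx _ h1) (K.inv_mem h1)
  · have h2 : (x : G) * u * (x : G)⁻¹ * (u : G)⁻¹ =
        ((x : G) * (t * u) * (x : G)⁻¹) * (t * u)⁻¹ := by
      calc (x : G) * u * (x : G)⁻¹ * (u : G)⁻¹ = x * t * (t⁻¹ * u) * (x : G)⁻¹ * (u : G)⁻¹ := by group
        _ = t * (x * (t⁻¹ * u) * (x : G)⁻¹) * (u : G)⁻¹ := by rw [hx]; group
        _ = t * (x * (t⁻¹ * t⁻¹) * (t * u) * (x : G)⁻¹) * (u : G)⁻¹ := by group
        _ = t * (x * (t * u) * (x : G)⁻¹) * (u : G)⁻¹ := by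
          rw [inv_eq_of_mul_eq_one_left h.tt, h.tt, mul_one]
        _ = (x * (t * u) * (x : G)⁻¹) * (t * (u : G)⁻¹) := by
          have h3 : t * ((x : G) * (t * u) * (x : G)⁻¹) = (x : G) * (t * u) * (x : G)⁻¹ * t := by
            have h4 : Commute t (x : G) := hx.symm
            have h5 : Commute t (u : G) := (mem_centralizer_singleton_iff.1 u.2).symm
            exact ((h4.mul_right ((Commute.refl t).mul_right h5)).mul_right h4.inv_right).eq
          rw [h3]; group
        _ = ((x : G) * (t * u) * (x : G)⁻¹) * (t * u)⁻¹ := by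
          have h5 : Commute t (u : G)⁻¹ := (mem_centralizer_singleton_iff.1 (u⁻¹).2).symm
          rw [h5.eq, mul_inv_rev, inv_eq_of_mul_eq_one_left h.tt]
    rw [h2]
    exact K.mul_mem (h.norm _ hx _ h1) (K.inv_mem h1)

/-- `C_G(t)/K` is abelian -/
theorem comm_mem (h : Gen t φ K) (x y : centralizer ({t} : Set G)) :
    (x : G) * y * (x : G)⁻¹ * (y : G)⁻¹ ∈ K := by
  by_cases hy : φ y ∈ An n
  · exact h.even_comm hy
  by_cases hx : φ x ∈ An n
  · have h1 := h.even_comm (u := x) (x := y) hx
    have h2 := K.inv_mem h1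
    have h3 : ((y : G) * x * (y : G)⁻¹ * (x : G)⁻¹)⁻¹ = (x : G) * y * (x : G)⁻¹ * (y : G)⁻¹ := by group
    rwa [h3] at h2
  · have h1 : φ (y * x⁻¹) ∈ An n := by
      rw [not_mem_iff] at hx hy
      rw [map_mul, map_inv, Perm.mem_alternatingGroup, Perm.sign_mul, Perm.sign_inv, hx, hy]; decide
    have h2 := h.even_comm (x := x) h1
    have h3 : (x : G) * ((y * x⁻¹ : centralizer ({t} : Set G)) : G) * (x : G)⁻¹ *
        (((y * x⁻¹ : centralizer ({t} : Set G)) : G))⁻¹ = (x : G) * y * (x : G)⁻¹ * (y : G)⁻¹ := by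
      show (x : G) * (y * (x : G)⁻¹) * (x : G)⁻¹ * (y * (x : G)⁻¹)⁻¹ = _
      group
    rwa [h3] at h2

theorem commutator_le_K (h : Gen t φ K) :
    ⁅centralizer ({t} : Set G), centralizer ({t} : Set G)⁆ ≤ K := by
  rw [commutator_le]
  intro x hx y hy
  exact h.comm_mem ⟨x, hx⟩ ⟨y, hy⟩

/-- **`t` has no conjugate in `K`** -/
theorem disj (h : Gen t φ K) (hn : 6 ≤ n) (g : G) : g * t * g⁻¹ ∉ K := by
  intro hk
  set k := g * t * g⁻¹ with hkdef
  -- the centralizer of `k` in `K`
  have hkk : k * k = 1 := by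
    calc k * k = g * (t * t) * g⁻¹ := by rw [hkdef]; group
      _ = 1 := by rw [h.tt]; group
  set κ : centralizer ({t} : Set G) := ⟨k, h.le hk⟩ with hκ
  have hκκ : φ κ * φ κ = 1 := by
    rw [← map_mul]
    have : κ * κ = 1 := Subtype.ext hkk
    rw [this, map_one]
  have h1 := mem_commutator_CA hn hκκ (Perm.mem_alternatingGroup.1 (h.even κ hk))
  -- lift
  set X : Subgroup G := K ⊓ centralizer ({k} : Set G) with hX
  have hXle : X ≤ centralizer ({t} : Set G) := inf_le_left.trans h.le
  have h2 : (CA (φ κ)) ≤ (X.subgroupOf (centralizer ({t} : Set G))).map φ := by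
    intro σ hσ
    obtain ⟨h3, h4⟩ := mem_CA.1 hσ
    obtain ⟨x, hx, hxσ⟩ := h.surj σ (Perm.mem_alternatingGroup.2 h4)
    refine ⟨x, ?_, hxσ⟩
    show (x : G) ∈ X
    refine ⟨hx, mem_centralizer_singleton_iff.2 ?_⟩
    have h5 : φ (x * κ) = φ (κ * x) := by rw [map_mul, map_mul, hxσ, h3]
    exact congrArg Subtype.val (h.inj (x := x * κ) (y := κ * x) (K.mul_mem hx hk) (K.mul_mem hk hx) h5)
  have h3 : φ κ ∈ (⁅X.subgroupOf (centralizer ({t} : Set G)), X.subgroupOf (centralizer ({t} : Set G))⁆).map φ := by
    rw [map_commutator]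
    exact commutator_mono h2 h2 h1
  obtain ⟨y, hy, hyκ⟩ := h3
  have h4 : (y : G) ∈ ⁅X, X⁆ := by
    have h5 : (⁅X.subgroupOf (centralizer ({t} : Set G)), X.subgroupOf (centralizer ({t} : Set G))⁆).map
        (centralizer ({t} : Set G)).subtype ≤ ⁅X, X⁆ := by
      rw [map_commutator]
      apply commutator_mono <;> exact Subgroup.map_subgroupOf_eq_of_le hXle |>.le
    exact h5 ⟨y, hy, rfl⟩
  have h5 : y = κ := by
    apply h.inj _ hk hyκ
    exact (commutator_le_self X h4).1
  have h6 : k ∈ ⁅X, X⁆ := by rw [h5] at h4; exact h4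
  have h7 : k ∈ ⁅centralizer ({k} : Set G), centralizer ({k} : Set G)⁆ :=
    commutator_mono inf_le_right inf_le_right h6
  -- conjugate back
  have h8 : centralizer ({k} : Set G) = (centralizer ({t} : Set G)).map (MulAut.conj g).toMonoidHom := by
    ext x
    rw [mem_centralizer_singleton_iff, Subgroup.mem_map]
    constructor
    · intro hx
      refine ⟨g⁻¹ * x * g, ?_, ?_⟩
      · rw [mem_centralizer_singleton_iff]
        calc g⁻¹ * x * g * t = g⁻¹ * (x * k) * g := by rw [hkdef]; group
          _ = g⁻¹ * (k * x) * g := by rw [hx]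
          _ = t * (g⁻¹ * x * g) := by rw [hkdef]; group
      · show g * (g⁻¹ * x * g) * g⁻¹ = x
        group
    · rintro ⟨y, hy, rfl⟩
      show g * y * g⁻¹ * k = k * (g * y * g⁻¹)
      have hyt := mem_centralizer_singleton_iff.1 hy
      calc g * y * g⁻¹ * k = g * (y * t) * g⁻¹ := by rw [hkdef]; group
        _ = g * (t * y) * g⁻¹ := by rw [hyt]
        _ = k * (g * y * g⁻¹) := by rw [hkdef]; group
  rw [h8, ← map_commutator] at h7
  obtain ⟨y, hy, hyk⟩ := h7
  have hyk' : g * y * g⁻¹ = k := hyk
  have h9 : y = t := by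
    have := congrArg (fun x => g⁻¹ * x * g) hyk'
    simp only [hkdef] at this
    calc y = g⁻¹ * (g * y * g⁻¹) * g := by group
      _ = g⁻¹ * (g * t * g⁻¹) * g := this
      _ = t := by group
  rw [h9] at hy
  exact h.notMem (h.commutator_le_K hy)

end Gen

end Cfsg.Agent.OddHalf.D5

private theorem dce_7dcd15a59b52 : _root_.True := by
  try have : _root_.True := by simp only [_root_.Cfsg.Agent.OddHalf.D5.CA.eq_1]
  exact _root_.True.intro
end

-- part: OddHalf/D4/M22/CenCert
section
set_option linter.all false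
open scoped Cfsg.Agent.FastGrp

-- merged: Cfsg.Agent.KFacts.MM.InvOut
section

/-!
# The involutions of `D22 = M22:2` outside `M22`

`inv_out`: an involution of `D22` outside `M22` is conjugate under `M22` to the involution packed in `bP` (type
`1^8 2^8`) or in `cP` (type `2^12`).
-/

set_option autoImplicit false

namespace Cfsg.Agent.KFacts.MM.InvOut

open Cfsg Cfsg.Agent.SporadicA.GolayBase Cfsg.Agent.SporadicA.GolayPerm
open Cfsg.Agent.SporadicStructure.M24El Cfsg.Agent.J4Type.Aut22

/-- the outer involution of type `1^8 2^8` -/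
def bP : ℕ := 1914911924472243136386796373820119

/-- the outer involution of type `2^12` -/
def cP : ℕ := 2808583293512710820028439172831447

/-- conjugates `bP` to `P1` -/
def gB : ℕ := 13611335312783174011501912370040194

/-- conjugates `cP` to `P2` -/
def gC : ℕ := 13068822485206276655119513267290345

/-- elements commuting with `P1` -/
def hB : List ℕ := [
  984818244535754528103549039458486304,
  970538992418718774876113737513730146,
  362553560939886452458423999101196399,
  726274566604616959877276909464296072,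
  402854394882367549375522275057576108,
  395230050926030335011804381491844141,
  975099167367143997163366438976733835,
  426459968842163354966003995949380757,
  797117087383379987268938402487219381,
  626529360229392337751241354014826598,
  722599214209702036400997348453505263,
  91418665656170596029373900940041681,
  428005751152569428841304981052113483,
  517954811042232104866764635160753269,
  789642024137996312745770922860303405,
  8219904618265178018076044327765047]

/-- elements commuting with `P2` -/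
def hC : List ℕ := [
  984818244535754528103549039458486304,
  845562451063237962141214594532844545,
  430289677500563459901050217871147303,
  215523871887267654656452078338069155,
  632823936864421362313402385466576452,
  560899977264012701353748373599604293,
  729770052312259887028432911302152869,
  648165856980067828296190326473793639,
  216821814841571607943162603773418893,
  307063742377302892088443783070518537,
  317448172600573089658662660941910186,
  894023391476413076539280837281681579,
  375898311782299089124720176526499952,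
  891427435103578941198294460303741101,
  419865819865328127076742742516308213,
  722021470091843795583957749464470671,
  546621653344898351491873544087443696,
  344531599915761785167087668833638031,
  187005441136687628521564002233800338,
  423798424789463348983954760474448562,
  809066245619727178530535045698986100,
  802221438777449412053025386908037858,
  83246204287815833858999822285745591,
  4688664803823436492535327677919974]

/-- the tests for the tables -/
def row (P i h : ℕ) : Bool := ok h && El.weq [h, P] [P, h] && Nat.beq (papp h i) 0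

def chk (P rep g0 : ℕ) (H : List ℕ) : Bool :=
  (El.pts.all fun i => Nat.beq (papp P i) i || H.any (row P i)) &&
    (ok P && ok rep && ok g0 && Nat.beq (papp g0 23) 0 && Nat.beq (papp g0 0) (papp P 0) &&
      El.weq [P, g0] [g0, rep])

theorem chk1 : chk J4.M24InvolData.P1 bP gB hB = true := by decide +kernel

theorem chk2 : chk J4.M24InvolData.P2 cP gC hC = true := by decide +kernel

theorem okl_two {A B : ℕ} (hA : ok A = true) (hB : ok B = true) : El.okl [A, B] = true := by
  unfold El.okl
  rw [List.all_cons, List.all_cons, List.all_nil, InvM22.isPerm_of_ok hA, InvM22.isPerm_of_ok hB]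
  rfl

theorem pm_of_weq {A B C D : ℕ} (hA : ok A = true) (hB : ok B = true) (hC : ok C = true)
    (hD : ok D = true) (h : El.weq [A, B] [C, D] = true) :
    El.pm A * El.pm B = El.pm C * El.pm D := by
  have h3 := El.pr_of_weq (okl_two hA hB) (okl_two hC hD) h
  rwa [El.pr_cons, El.pr_one, El.pr_cons, El.pr_one] at h3

theorem pm_pt {P : ℕ} (h : ok P = true) {i : ℕ} (hi : i < 24) : El.pm P (pt i) = pt (papp P i) := by
  rw [← El.pt_val, El.val_pm (InvM22.isPerm_of_ok h) hi]

theorem pt_23 : pt 23 = (none : GolayPt) := rfl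

theorem pt_0 : pt 0 = (some 0 : GolayPt) := by
  unfold pt
  simp

/-- the conjugation step -/
theorem conj_step {P rep g0 : ℕ} {H : List ℕ} (hc : chk P rep g0 H = true)
    {u g : Equiv.Perm GolayPt} (hg : g ∈ M24) (e : g * u * g⁻¹ = El.pm P)
    (hu : u none = some 0) : ∃ m ∈ Spor.M22, u = m * El.pm rep * m⁻¹ := by
  unfold chk at hc
  rw [Bool.and_eq_true, Bool.and_eq_true, Bool.and_eq_true, Bool.and_eq_true, Bool.and_eq_true,
    Bool.and_eq_true, Nat.beq_eq, Nat.beq_eq, List.all_eq_true] at hc
  obtain ⟨hrow, ⟨⟨⟨⟨hP, hrep⟩, hg0⟩, h23⟩, h0⟩, hw⟩ := hc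
  have hw' := pm_of_weq hP hg0 hg0 hrep hw
  -- `P` moves `g none`
  have hPg : El.pm P (g none) = g (some 0) := by
    rw [← e, ← hu]
    show g (u (g⁻¹ (g none))) = g (u none)
    rw [show g⁻¹ (g none) = none from g.symm_apply_apply _]
  have hlt := idx_lt (g none)
  have hPg' : pt (papp P (idx (g none))) = g (some 0) := by
    rw [← pm_pt hP hlt, pt_idx, hPg]
  have h4 := hrow _ (El.mem_pts hlt)
  have h5 : Nat.beq (papp P (idx (g none))) (idx (g none)) = false := by
    rw [Bool.eq_false_iff]
    intro h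
    have h6 := Nat.eq_of_beq_eq_true h
    rw [h6, pt_idx] at hPg'
    have h7 := g.injective hPg'
    cases h7
  rw [h5, Bool.false_or, List.any_eq_true] at h4
  obtain ⟨h, -, hh⟩ := h4
  unfold row at hh
  rw [Bool.and_eq_true, Bool.and_eq_true, Nat.beq_eq] at hh
  obtain ⟨⟨hok, hhw⟩, hv⟩ := hh
  have hcomm := pm_of_weq hok hP hP hok hhw
  have e1 : El.pm h (g none) = pt 0 := by
    rw [← pt_idx (g none), pm_pt hok hlt, hv]
  have e2 : El.pm h (g (some 0)) = pt (papp P 0) := by
    rw [← hPg]
    show (El.pm h * El.pm P) (g none) = _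
    rw [hcomm]
    show El.pm P (El.pm h (g none)) = _
    rw [e1, pm_pt hP (by norm_num)]
  have e3 : El.pm g0 none = pt 0 := by
    rw [← pt_23, pm_pt hg0 (by norm_num), h23]
  have e4 : El.pm g0 (some 0) = pt (papp P 0) := by
    rw [← pt_0, pm_pt hg0 (by norm_num), h0]
  refine ⟨g⁻¹ * (El.pm h)⁻¹ * El.pm g0, ⟨⟨M24.mul_mem (M24.mul_mem (M24.inv_mem hg)
    (M24.inv_mem (InvM22.pm_mem hok))) (InvM22.pm_mem hg0), ?_⟩, ?_⟩, ?_⟩
  · show g⁻¹ ((El.pm h)⁻¹ (El.pm g0 none)) = none
    rw [e3, ← e1, show (El.pm h)⁻¹ (El.pm h (g none)) = g none from (El.pm h).symm_apply_apply _]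
    exact g.symm_apply_apply _
  · show g⁻¹ ((El.pm h)⁻¹ (El.pm g0 (some 0))) = some 0
    rw [e4, ← e2, show (El.pm h)⁻¹ (El.pm h (g (some 0))) = g (some 0) from
      (El.pm h).symm_apply_apply _]
    exact g.symm_apply_apply _
  · have h8 : g⁻¹ * (El.pm h)⁻¹ * El.pm g0 * El.pm rep * (g⁻¹ * (El.pm h)⁻¹ * El.pm g0)⁻¹ =
        g⁻¹ * (El.pm h)⁻¹ * (El.pm g0 * El.pm rep) * (El.pm g0)⁻¹ * El.pm h * g := by group
    rw [h8, ← hw']
    have h9 : g⁻¹ * (El.pm h)⁻¹ * (El.pm P * El.pm g0) * (El.pm g0)⁻¹ * El.pm h * g =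
        g⁻¹ * (El.pm h)⁻¹ * (El.pm P * El.pm h) * g := by group
    rw [h9, ← hcomm]
    have h10 : g⁻¹ * (El.pm h)⁻¹ * (El.pm h * El.pm P) * g = g⁻¹ * El.pm P * g := by group
    rw [h10, ← e]
    group

theorem ok_b : ok bP = true := by decide +kernel

theorem ok_c : ok cP = true := by decide +kernel

/-- **(M2)** -/
theorem inv_out {u : Equiv.Perm GolayPt} (hu : u ∈ D22) (hu' : u ∉ Spor.M22) (h2 : u * u = 1) :
    ∃ m ∈ Spor.M22, u = m * El.pm bP * m⁻¹ ∨ u = m * El.pm cP * m⁻¹ := by
  have h3 := (mem_D22_iff u).1 hu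
  have h4 : u none = some 0 := by
    rcases h3.2 with h | h
    · exact absurd ((Cfsg.Agent.SporadicA.MathieuRecog.mem_M22_iff u).2 ⟨h3.1, h⟩) hu'
    · exact h.1
  have h1 : u ≠ 1 := fun h => by
    rw [h, Equiv.Perm.one_apply] at h4
    cases h4
  obtain ⟨g, hg | hg⟩ := J4.M24Invol.invol_conj ⟨u, h3.1⟩ (Subtype.ext h2)
    (fun e => h1 (congrArg Subtype.val e))
  · have hg' : (g : Equiv.Perm GolayPt) * u * (g : Equiv.Perm GolayPt)⁻¹ =
        ((el J4.M24InvolData.P1 : M24) : Equiv.Perm GolayPt) := congrArg Subtype.val hg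
    rw [El.coe_el J4.M24Invol.ok_P1] at hg'
    obtain ⟨m, hm, e⟩ := conj_step chk1 g.2 hg' h4
    exact ⟨m, hm, Or.inl e⟩
  · have hg' : (g : Equiv.Perm GolayPt) * u * (g : Equiv.Perm GolayPt)⁻¹ =
        ((el J4.M24InvolData.P2 : M24) : Equiv.Perm GolayPt) := congrArg Subtype.val hg
    rw [El.coe_el J4.M24Invol.ok_P2] at hg'
    obtain ⟨m, hm, e⟩ := conj_step chk2 g.2 hg' h4
    exact ⟨m, hm, Or.inr e⟩

end Cfsg.Agent.KFacts.MM.InvOut

end

-- merged: Cfsg.Agent.OddHalf.D4.M22.CenCert
section

/-!
# Centralisers in `M24` of a list of packed permutations: certificates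

`cen_of_cert`: an element of `M24` commuting with the permutations packed in `D` (and with admissible values at the
roots) is one of the elements packed in `good`.
-/

set_option autoImplicit false

namespace Cfsg.Agent.OddHalf.D4.M22.CenCert

open Cfsg Cfsg.Agent.SporadicA.GolayBase Cfsg.Agent.SporadicA.GolayPerm
open Cfsg.Agent.SporadicStructure.M24El Cfsg.Agent.KFacts.MM

/-- the word in the elements of `D` -/
def wd (D : List ℕ) (w : List ℕ) : List ℕ := w.map fun k => D.getD k idP

theorem okl_wd {D : List ℕ} (hD : ∀ P ∈ D, ok P = true) (w : List ℕ) : El.okl (wd D w) = true := by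
  unfold El.okl wd
  rw [List.all_eq_true]
  intro x hx
  obtain ⟨k, -, rfl⟩ := List.mem_map.1 hx
  exact InvM22.isPerm_of_ok (ok_getD hD k)

theorem pm_idP : El.pm idP = 1 := by
  apply El.ext_val
  intro i hi
  rw [El.val_pm (InvM22.isPerm_of_ok ok_idP) hi, El.val_one hi]
  have h : (El.pts.all fun i => Nat.beq (papp idP i) i) = true := by decide +kernel
  rw [List.all_eq_true] at h
  exact Nat.eq_of_beq_eq_true (h i (El.mem_pts hi))

theorem comm_wd {D : List ℕ} {g : Equiv.Perm GolayPt} (hc : ∀ P ∈ D, g * El.pm P = El.pm P * g)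
    (w : List ℕ) : g * El.pr (wd D w) = El.pr (wd D w) * g := by
  induction w with
  | nil => simp [wd, El.pr_nil]
  | cons k w ih =>
    have h1 : wd D (k :: w) = D.getD k idP :: wd D w := rfl
    have h2 : g * El.pm (D.getD k idP) = El.pm (D.getD k idP) * g := by
      rw [List.getD_eq_getElem?_getD]
      rcases hk : D[k]? with _ | P
      · rw [Option.getD_none, pm_idP, mul_one, one_mul]
      · exact hc P (List.mem_of_getElem? hk)
    rw [h1, El.pr_cons, ← mul_assoc, h2, mul_assoc, ih, mul_assoc]

theorem val_wd {D : List ℕ} (hD : ∀ P ∈ D, ok P = true) {g : Equiv.Perm GolayPt}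
    (hc : ∀ P ∈ D, g * El.pm P = El.pm P * g) (w : List ℕ) {i : ℕ} (hi : i < 24) :
    El.val g (El.ev (wd D w) i) = El.ev (wd D w) (El.val g i) := by
  rw [← El.val_pr (okl_wd hD w) hi, ← El.val_pr (okl_wd hD w) (El.val_lt g i), ← El.val_mul,
    ← El.val_mul, comm_wd hc w]

/-- all choices -/
def combos : List (List ℕ) → List (List ℕ)
  | [] => [[]]
  | l :: L => l.flatMap fun a => (combos L).map fun c => a :: c

theorem mem_combos {c : List ℕ} {L : List (List ℕ)} (h : List.Forall₂ (fun a l => a ∈ l) c L) :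
    c ∈ combos L := by
  induction h with
  | nil => exact List.mem_singleton.2 rfl
  | cons h1 _ ih =>
    exact List.mem_flatMap.2 ⟨_, h1, List.mem_map.2 ⟨_, ih, rfl⟩⟩

/-- a root: its index, the candidates for its image, the words excluding the others -/
abbrev Root := ℕ × List ℕ × List (List ℕ)

/-- the candidates of the roots are complete -/
def chk1 (D : List ℕ) (adm : ℕ → ℕ → Bool) (roots : List Root) : Bool :=
  roots.all fun r => Nat.blt r.1 24 && El.pts.all fun a => !(adm r.1 a) || r.2.1.contains a ||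
    r.2.2.any fun w => Nat.beq (El.ev (wd D w) r.1) r.1 && !(Nat.beq (El.ev (wd D w) a) a)

/-- the tree -/
def chk2 (D : List ℕ) (roots : List Root) (T : List (ℕ × List ℕ)) : Bool :=
  Nat.beq T.length 24 && El.pts.all fun i => Nat.blt (T.getD i (0, [])).1 roots.length &&
    Nat.beq (El.ev (wd D (T.getD i (0, [])).2) (roots.getD (T.getD i (0, [])).1 (0, [], [])).1) i

/-- the packed table of values -/
def mk (D : List ℕ) (T : List (ℕ × List ℕ)) (c : List ℕ) : ℕ :=
  pack (T.map fun t => El.ev (wd D t.2) (c.getD t.1 0))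

/-- the choices -/
def chk3 (D : List ℕ) (roots : List Root) (T : List (ℕ × List ℕ)) (good : List ℕ) : Bool :=
  (combos (roots.map fun r => r.2.1)).all fun c => !(ok (mk D T c)) || good.contains (mk D T c)

def chk (D : List ℕ) (adm : ℕ → ℕ → Bool) (roots : List Root) (T : List (ℕ × List ℕ))
    (good : List ℕ) : Bool :=
  D.all ok && chk1 D adm roots && chk2 D roots T && chk3 D roots T good

theorem cen_of_cert {D : List ℕ} {adm : ℕ → ℕ → Bool} {roots : List Root} {T : List (ℕ × List ℕ)}
    {good : List ℕ} (h : chk D adm roots T good = true) {g : Equiv.Perm GolayPt} (hg : g ∈ M24)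
    (hadm : ∀ j < 24, adm j (El.val g j) = true) (hc : ∀ P ∈ D, g * El.pm P = El.pm P * g) :
    ∃ Q ∈ good, g = El.pm Q := by
  unfold chk at h
  rw [Bool.and_eq_true, Bool.and_eq_true, Bool.and_eq_true, List.all_eq_true] at h
  obtain ⟨⟨⟨hD, h1⟩, h2⟩, h3⟩ := h
  unfold chk2 at h2
  rw [Bool.and_eq_true, Nat.beq_eq, List.all_eq_true] at h2
  obtain ⟨hlen, h2⟩ := h2
  unfold chk1 at h1
  rw [List.all_eq_true] at h1
  -- the values at the roots
  have hroot : ∀ r ∈ roots, El.val g r.1 ∈ r.2.1 := by
    intro r hr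
    have h4 := h1 r hr
    rw [Bool.and_eq_true, List.all_eq_true] at h4
    obtain ⟨hlt, h4⟩ := h4
    have hlt' : r.1 < 24 := by
      have : Nat.blt r.1 24 = true := hlt
      rw [Nat.blt_eq] at this
      exact this
    have h5 := h4 _ (El.mem_pts (El.val_lt g r.1))
    rw [hadm r.1 hlt', Bool.not_true, Bool.false_or, Bool.or_eq_true] at h5
    rcases h5 with h5 | h5
    · exact List.contains_iff_mem.1 h5
    · exfalso
      rw [List.any_eq_true] at h5
      obtain ⟨w, -, hw⟩ := h5
      rw [Bool.and_eq_true, Nat.beq_eq, Bool.not_eq_true'] at hw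
      obtain ⟨hw1, hw2⟩ := hw
      have h6 := val_wd hD hc w hlt'
      rw [hw1] at h6
      rw [← h6, Nat.beq_refl] at hw2
      cases hw2
  have hcomb : (roots.map fun r => El.val g r.1) ∈ combos (roots.map fun r => r.2.1) := by
    apply mem_combos
    rw [List.forall₂_map_left_iff, List.forall₂_map_right_iff, List.forall₂_same]
    exact hroot
  unfold chk3 at h3
  rw [List.all_eq_true] at h3
  have h4 := h3 _ hcomb
  -- the values
  have hget : ∀ {k : ℕ}, k < roots.length →
      (roots.map fun r => El.val g r.1).getD k 0 = El.val g (roots.getD k (0, [], [])).1 := by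
    intro k hk
    rw [List.getD_eq_getElem?_getD, List.getD_eq_getElem?_getD, List.getElem?_map,
      List.getElem?_eq_getElem hk]
    rfl
  have hrlt : ∀ {k : ℕ}, k < roots.length → (roots.getD k (0, [], [])).1 < 24 := by
    intro k hk
    rw [List.getD_eq_getElem?_getD, List.getElem?_eq_getElem hk, Option.getD_some]
    have h4 := h1 _ (List.getElem_mem hk)
    rw [Bool.and_eq_true] at h4
    have : Nat.blt (roots[k]).1 24 = true := h4.1
    rw [Nat.blt_eq] at this
    exact this
  set c := roots.map fun r => El.val g r.1 with hcdef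
  set l := T.map fun t => El.ev (wd D t.2) (c.getD t.1 0) with hl
  have hTi : ∀ i < 24, l.getD i 0 = El.val g i := by
    intro i hi
    have hiT : i < T.length := by rw [hlen]; exact hi
    have h5 := h2 i (El.mem_pts hi)
    rw [Bool.and_eq_true, Nat.beq_eq] at h5
    obtain ⟨h5, h6⟩ := h5
    have h5' : (T.getD i (0, [])).1 < roots.length := by
      have : Nat.blt (T.getD i (0, [])).1 roots.length = true := h5
      rw [Nat.blt_eq] at this
      exact this
    have h7 : T.getD i (0, []) = T[i] := by
      rw [List.getD_eq_getElem?_getD, List.getElem?_eq_getElem hiT, Option.getD_some]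
    have h8 : l.getD i 0 = El.ev (wd D (T.getD i (0, [])).2) (c.getD (T.getD i (0, [])).1 0) := by
      rw [hl, List.getD_eq_getElem?_getD, List.getElem?_map, List.getElem?_eq_getElem hiT, h7]
      rfl
    rw [h8, hget h5', ← val_wd hD hc _ (hrlt h5'), h6]
  have hall : ∀ a ∈ l, a < 32 := by
    intro a ha
    obtain ⟨i, hi, rfl⟩ := List.mem_iff_getElem.1 ha
    have hi' : i < 24 := by
      rw [← hlen]
      rw [hl, List.length_map] at hi
      exact hi
    have h5 := hTi i hi'
    rw [List.getD_eq_getElem?_getD, List.getElem?_eq_getElem hi, Option.getD_some] at h5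
    rw [h5]
    exact lt_trans (El.val_lt g i) (by norm_num)
  have hpapp : ∀ i < 24, papp (mk D T c) i = El.val g i := by
    intro i hi
    have : mk D T c = pack l := rfl
    rw [this, papp_pack hall, hTi i hi]
  have hperm : isPerm (mk D T c) = true := by
    apply isPerm_of_injOn
    · intro i hi
      rw [hpapp i hi]
      exact El.val_lt g i
    · intro i j hi hj hij
      rw [hpapp i hi, hpapp j hj] at hij
      exact El.val_inj hi hj hij
  have hpm : g = El.pm (mk D T c) := by
    apply El.ext_val
    intro i hi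
    rw [El.val_pm hperm hi, hpapp i hi]
  have hok : ok (mk D T c) = true := by
    rw [ok_iff]
    refine ⟨hperm, isAut_of_mem_M24 hperm ?_⟩
    rw [← El.pm_eq hperm, ← hpm]
    exact hg
  rw [hok, Bool.not_true, Bool.false_or] at h4
  exact ⟨_, List.contains_iff_mem.1 h4, hpm⟩

end Cfsg.Agent.OddHalf.D4.M22.CenCert

end

private theorem dce_8d864f0fd8d2 : _root_.True := by
  try have : _root_.True := by simp only [_root_.Cfsg.Agent.OddHalf.D4.M22.CenCert.wd.eq_1]
  exact _root_.True.intro
end
end
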